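import Cfsg.Agent.H238.Om7.Sl4

/-!
# S3691, `Ω_7(q)`: subgroups of `PSL_4(q)` of order divisible by `r ^ a > 9`, `r` primitive of order 4 (helper238)

`core4` : the `p`-part is at most `p ^ (2 f)` or at least `p ^ (4 f)`; with a primitive prime of order 3 as well: everything.
-/

set_option autoImplicit false

namespace Cfsg.Agent.H238.Om7

open Module Matrix Cfsg Cfsg.Geo Cfsg.Agent.H728.DghpNum Cfsg.Agent.H304.PslT Cfsg.Agent.H304.Ppd
open Cfsg.Agent.H884.El (PP decomp_le ext_cases kill_subfield)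
open scoped MatrixGroups

section

variable {F : Type} [Field F] [Fintype F] {p f : ℕ}

omit [Fintype F] in
/-- the centre of `SL_4` has exponent four -/
theorem ker_pr_pow {x : Matrix.SpecialLinearGroup (Fin 4) F} (hx : x ∈ (pr 4 F).ker) : x ^ 4 = 1 := by
  rw [QuotientGroup.ker_mk', Matrix.SpecialLinearGroup.mem_center_iff] at hx
  obtain ⟨c, hc, hcx⟩ := hx
  apply Subtype.ext
  rw [Matrix.SpecialLinearGroup.coe_pow, ← hcx, ← map_pow, Fintype.card_fin] at *
  rw [hc, map_one, Matrix.SpecialLinearGroup.coe_one]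

theorem not_dvd_of_pow {G : Type*} [Group G] [Finite G] {H : Subgroup G} {l k : ℕ} (hl : l.Prime)
    (h2 : ∀ x ∈ H, x ^ k = 1) (hlk : ¬ l ∣ k) : ¬ l ∣ Nat.card H := by
  intro hd
  have := Fact.mk hl
  obtain ⟨x, hx⟩ := exists_prime_orderOf_dvd_card' l hd
  apply hlk
  rw [← hx]
  exact orderOf_dvd_of_pow_eq_one (Subtype.ext (h2 x x.2))

theorem card_map_mul {A C : Type*} [Group A] [Group C] (π : A →* C) (Γ : Subgroup A) :
    Nat.card (Γ.map π) * Nat.card ↥(π.ker ⊓ Γ) = Nat.card Γ := by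
  have h4 := Subgroup.relIndex_mul_relIndex (⊥ : Subgroup A) (π.ker ⊓ Γ) Γ bot_le inf_le_right
  rw [Subgroup.relIndex_bot_left, Subgroup.relIndex_bot_left, Subgroup.inf_relIndex_right, Subgroup.relIndex_ker] at h4
  rw [mul_comm]
  exact h4

omit [Fintype F] in
theorem card_pre (M : Subgroup (Matrix.ProjectiveSpecialLinearGroup (Fin 4) F)) :
    Nat.card (pre M) = Nat.card M * Nat.card ↥((pr 4 F).ker ⊓ M.comap (pr 4 F)) := by
  rw [H304.PslT.pre, Subgroup.card_map_of_injective toGL_injective, ← card_map_mul (pr 4 F) (M.comap (pr 4 F)),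
    Subgroup.map_comap_eq_self_of_surjective (QuotientGroup.mk'_surjective _)]

theorem not_dvd_two_pow {l : ℕ} (hl : l.Prime) (hl2 : l ≠ 2) (k : ℕ) : ¬ l ∣ 2 ^ k := fun h =>
  hl2 ((Nat.prime_dvd_prime_iff_eq hl Nat.prime_two).1 (hl.dvd_of_dvd_pow h))

theorem fact_pre (M : Subgroup (Matrix.ProjectiveSpecialLinearGroup (Fin 4) F)) {l : ℕ} (hl : l.Prime) (hl2 : l ≠ 2) :
    (Nat.card (pre M)).factorization l = (Nat.card M).factorization l := by
  have hfin : Finite (Matrix.ProjectiveSpecialLinearGroup (Fin 4) F) := inferInstance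
  rw [card_pre, Nat.factorization_mul Nat.card_pos.ne' Nat.card_pos.ne', Finsupp.add_apply,
    Nat.factorization_eq_zero_of_not_dvd (n := Nat.card ↥((pr 4 F).ker ⊓ M.comap (pr 4 F))), add_zero]
  exact not_dvd_of_pow (k := 2 ^ 2) hl (fun x hx => ker_pr_pow hx.1) (not_dvd_two_pow hl hl2 2)

theorem dvd_pre (M : Subgroup (Matrix.ProjectiveSpecialLinearGroup (Fin 4) F)) {n : ℕ} (h : n ∣ Nat.card M) :
    n ∣ Nat.card (pre M) := by
  rw [card_pre]
  exact h.mul_right _

omit [Fintype F] in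
theorem pre_mono {M N : Subgroup (Matrix.ProjectiveSpecialLinearGroup (Fin 4) F)} (h : M ≤ N) : pre M ≤ pre N :=
  Subgroup.map_mono (Subgroup.comap_mono h)

/-- numbers: small groups -/
theorem small_false {r a N : ℕ} (hf : 1 ≤ f) (hr : PP p (f * 4) r) (hb : 9 < r ^ a) (hd : r ^ a ∣ N)
    (h25 : ¬ 25 ∣ N) (hN : ∀ u : ℕ, u.Prime → u ∣ N → u = 2 ∨ u = 3 ∨ u = 5 ∨ u = 7) : False := by
  have ha : a ≠ 0 := by rintro rfl; norm_num at hb
  have h1 := hN r hr.prime ((dvd_pow_self r ha).trans hd)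
  have h4 : 4 ∣ r - 1 := (Dvd.intro_left f rfl).trans (hr.dvd_sub_one (by omega))
  have h5 : r = 5 := by
    rcases h1 with h | h | h | h
    · subst h; revert h4; decide
    · subst h; revert h4; decide
    · exact h
    · subst h; revert h4; decide
  subst h5
  have ha2 : 2 ≤ a := by
    by_contra hcon
    have : a = 1 := by omega
    subst this
    norm_num at hb
  exact h25 ((pow_dvd_pow 5 ha2).trans hd)

/-- the residual subgroups -/
theorem resid_false {r a : ℕ} (hf : 1 ≤ f) (hr : PP p (f * 4) r) (hb : 9 < r ^ a)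
    {M : Subgroup (Matrix.ProjectiveSpecialLinearGroup (Fin 4) F)} (hM : IsCoatom M)
    (hres : InLinearResidualClass (pre M)) (hd : r ^ a ∣ Nat.card M) : False := by
  obtain ⟨P, p', hP, hp', hF, h⟩ := S5782.result (pre M) (isMaximalIn_pre hM) hres
  have h3 := hd.trans (card_dvd_mulAut (by norm_num) hP)
  rcases h with ⟨⟨e⟩, -⟩ | ⟨⟨K, i1, i2, hK, ⟨e⟩⟩, -⟩
  · rw [Nat.card_congr (MulAut.congr e).toEquiv] at h3
    refine small_false (N := 5040) hf hr hb (h3.trans Cfsg.Agent.H900.SU4.card_mulAut_alt_seven) (by norm_num) ?_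
    intro u hu hd
    have h5 : u ∣ 2 ^ 4 * (3 ^ 2 * (5 * 7)) := hd
    rcases hu.dvd_mul.1 h5 with h | h
    · exact Or.inl ((Nat.prime_dvd_prime_iff_eq hu Nat.prime_two).1 (hu.dvd_of_dvd_pow h))
    rcases hu.dvd_mul.1 h with h | h
    · exact Or.inr (Or.inl ((Nat.prime_dvd_prime_iff_eq hu Nat.prime_three).1 (hu.dvd_of_dvd_pow h)))
    rcases hu.dvd_mul.1 h with h | h
    · exact Or.inr (Or.inr (Or.inl ((Nat.prime_dvd_prime_iff_eq hu (by norm_num)).1 h)))
    · exact Or.inr (Or.inr (Or.inr ((Nat.prime_dvd_prime_iff_eq hu (by norm_num)).1 h)))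
  · have h8 : (Nat.card (MulAut (PSU 4 K 2))) = 2 * 25920 := by
      rw [Cfsg.Agent.H845.AutUFour.card_mulAut_PSU hK]
      congr 1
      have h := S0280.result (F := K) (q := 2) (by rw [hK]; norm_num) 4 (by norm_num)
      simp [Finset.prod_range_succ, Nat.even_iff] at h
      omega
    rw [Nat.card_congr (MulAut.congr e).toEquiv, h8] at h3
    refine small_false (N := 2 * 25920) hf hr hb h3 (by norm_num) ?_
    intro u hu hd
    have h5 : u ∣ 2 ^ 7 * (3 ^ 4 * 5) := hd
    rcases hu.dvd_mul.1 h5 with h | h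
    · exact Or.inl ((Nat.prime_dvd_prime_iff_eq hu Nat.prime_two).1 (hu.dvd_of_dvd_pow h))
    rcases hu.dvd_mul.1 h with h | h
    · exact Or.inr (Or.inl ((Nat.prime_dvd_prime_iff_eq hu Nat.prime_three).1 (hu.dvd_of_dvd_pow h)))
    · exact Or.inr (Or.inr (Or.inl ((Nat.prime_dvd_prime_iff_eq hu (by norm_num)).1 h)))

/-- the order of `PSL_4(q)` -/
theorem top_fact (hp : p.Prime) (hf : 1 ≤ f) (hF : Nat.card F = p ^ f) :
    4 * f ≤ (Nat.card (⊤ : Subgroup (Matrix.ProjectiveSpecialLinearGroup (Fin 4) F))).factorization p := by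
  have hfin : Finite (Matrix.ProjectiveSpecialLinearGroup (Fin 4) F) := inferInstance
  have hF' : Fintype.card F = p ^ f := by rw [← Nat.card_eq_fintype_card]; exact hF
  rw [Subgroup.card_top]
  refine (Nat.Prime.pow_dvd_iff_le_factorization hp Nat.card_pos.ne').1 ?_
  have h := S0243.result (F := F) rfl 4 (by norm_num)
  have h1 : p ^ (4 * f) ∣ ∏ i : Fin 4, (Fintype.card F ^ 4 - Fintype.card F ^ (i : ℕ)) := by
    have e3 : (p ^ f) ^ 3 ∣ Fintype.card F ^ 4 - Fintype.card F ^ ((3 : Fin 4) : ℕ) := by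
      rw [hF']
      exact Nat.dvd_sub (pow_dvd_pow _ (by norm_num)) (pow_dvd_pow _ (by norm_num))
    have e1 : (p ^ f) ^ 1 ∣ Fintype.card F ^ 4 - Fintype.card F ^ ((1 : Fin 4) : ℕ) := by
      rw [hF']
      exact Nat.dvd_sub (pow_dvd_pow _ (by norm_num)) (pow_dvd_pow _ (by norm_num))
    rw [Fin.prod_univ_four, show p ^ (4 * f) = (p ^ f) ^ 1 * (p ^ f) ^ 3 by rw [← pow_add, ← pow_mul]; congr 1; ring]
    exact mul_dvd_mul (e1.mul_left _ |>.mul_right _) e3
  rw [← h] at h1
  have hco : ∀ m, m ∣ p ^ f - 1 → Nat.Coprime (p ^ (4 * f)) m := by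
    intro m hm
    apply Nat.Coprime.pow_left
    rw [hp.coprime_iff_not_dvd]
    exact fun h => ndvd_pred hp hf (h.trans hm)
  have h2 := (hco _ (by rw [← hF']; exact Nat.gcd_dvd_right _ _)).dvd_of_dvd_mul_left h1
  exact (hco _ (by rw [hF'])).dvd_of_dvd_mul_left h2

/-- **the maximal subgroups** -/
theorem core_max (hp : p.Prime) (hp2 : p ≠ 2) (hf : 1 ≤ f) (hF : Nat.card F = p ^ f) (h31 : 31 ≤ p ^ f)
    {M₀ M : Subgroup (Matrix.ProjectiveSpecialLinearGroup (Fin 4) F)} (hM : IsCoatom M) (hle : M₀ ≤ M) {r a : ℕ}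
    (hr : PP p (f * 4) r) (hb : 9 < r ^ a) (hd : r ^ a ∣ Nat.card M₀) :
    ((Nat.card M₀).factorization p ≤ 2 * f ∨ 4 * f ≤ (Nat.card M₀).factorization p) ∧
      ∀ s, PP p (f * 3) s → ¬ s ∣ Nat.card M₀ := by
  have hfin : Finite (GL (Fin 4) F) := inferInstance
  have hfinP : Finite (Matrix.ProjectiveSpecialLinearGroup (Fin 4) F) := inferInstance
  have hF' : Fintype.card F = p ^ f := by rw [← Nat.card_eq_fintype_card]; exact hF
  have hpr := pre_mono hle
  have ha : a ≠ 0 := by rintro rfl; norm_num at hb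
  have hrd : r ∣ Nat.card M₀ := (dvd_pow_self r ha).trans hd
  have hrP : r ∣ Nat.card (pre M₀) := dvd_pre M₀ hrd
  have hr4 : PP (Nat.card F) 4 r := pp_card hf hF hr
  have hr4' : Ppd (Fintype.card F) 4 r := by rw [← Nat.card_eq_fintype_card]; exact ppd_of_pp hr4 (by norm_num)
  have hlt := hr4.lt (by norm_num)
  obtain ⟨x, hxr, hxM⟩ := exists_of_dvd hr.prime hrd
  have hpF : ¬ p ∣ Nat.card F - 1 := by rw [hF]; exact ndvd_pred hp hf
  have hrF : ¬ r ∣ Nat.card F - 1 := by
    intro h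
    have h1 := (hr4.dvd_iff Nat.card_pos 1).1 (by rwa [pow_one])
    have := Nat.le_of_dvd (by norm_num) h1
    omega
  have hs3 : ∀ s, PP p (f * 3) s → PP (Nat.card F) 3 s := fun s hs => pp_card hf hF hs
  have hs3' : ∀ s, PP p (f * 3) s → Ppd (Fintype.card F) 3 s := fun s hs => by
    rw [← Nat.card_eq_fintype_card]; exact ppd_of_pp (hs3 s hs) (by norm_num)
  have hsge : ∀ s, PP p (f * 3) s → 7 ≤ s := by
    intro s hs
    have h1 := (hs3 s hs).lt (by norm_num)
    have h2 := (hs3 s hs).dvd_sub_one (by norm_num)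
    have h3 := (hs3 s hs).prime
    rcases h3.eq_two_or_odd with h | h
    · omega
    · obtain ⟨c, hc⟩ := h2
      by_contra hcon
      have : s = 4 ∨ s = 5 ∨ s = 6 := by omega
      omega
  rcases S5781.result (pre M) (isMaximalIn_pre hM) with ⟨W, hW0, hW1, e⟩ | ⟨-, D, hD, e⟩ | ⟨-, D, hD, e⟩ | ⟨K, hK, e⟩ |
    ⟨F₀, ρ, B, hρ, hc, e⟩ | ⟨p', R, hp', hFp, h4, hR, e⟩ | ⟨-, Q, hQ, e⟩ | ⟨g, hg, e⟩ | ⟨σ, g, hg, e⟩ | hres
  · exfalso
    rw [e] at hpr
    rcases le_finrank_of_mem_stabilizer hr4' hxr (mem_of_subspaceStabilizer (hpr hxM).1) with h | h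
    · apply hW1
      apply Submodule.eq_top_of_finrank_eq
      have h1 := Submodule.finrank_le W
      rw [Module.finrank_fintype_fun_eq_card, Fintype.card_fin] at h1 ⊢
      omega
    · apply hW0
      rw [Fintype.card_fin] at h
      exact Submodule.finrank_eq_zero.1 (by omega)
  · exfalso
    rw [e] at hpr
    have := decomp_le hD (hpr.trans inf_le_left) hr4 (by norm_num) hrP
    omega
  · exfalso
    rw [e] at hpr
    have := decomp_le hD (hpr.trans inf_le_left) hr4 (by norm_num) hrP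
    omega
  · rw [e] at hpr
    have hne : Nonempty (Fin 4) := ⟨0⟩
    refine ⟨Or.inl ?_, fun s hs hsd => ?_⟩
    · rw [← fact_pre M₀ hp hp2, mul_comm]
      exact Cfsg.Agent.H96.Rg.factorization_le hp hf hF Nat.prime_two (Ne.symm hp2) hK (by rw [Fintype.card_fin])
        (hpr.trans inf_le_left)
    · rcases ext_cases Nat.prime_two hK (hpr.trans inf_le_left) (by rw [Fintype.card_fin]; norm_num) (hs3 s hs)
        (by rw [Fintype.card_fin]; norm_num) (dvd_pre M₀ hsd) with h | h
      · have := hsge s hs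
        omega
      · revert h; decide
  · exfalso
    rw [e] at hpr
    exact kill_subfield (hpr.trans inf_le_left) hρ (by rw [Nat.card_eq_fintype_card]; exact hc) hp hF hr
      (by rw [Fintype.card_fin]; norm_num) (by norm_num) hrP
  · rw [e] at hpr
    have hpp : p = p' := by
      have h2 : p ∣ p' := by
        rw [← hFp, hF']; exact dvd_pow_self _ (by omega)
      exact (Nat.prime_dvd_prime_iff_eq hp hp').1 h2
    have hq : 31 ≤ p := by
      rw [← hF', hFp, ← hpp] at h31
      exact h31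
    have hne : Nonempty (Fin 4) := ⟨0⟩
    have ht : H920.IsType 2 2 R := by
      obtain ⟨_, _, -, -, h⟩ := hR.field
      rcases h with ⟨h, -⟩ | ⟨-, -, hZ, -, m, hm⟩ | ⟨-, -, h, -⟩
      · exact absurd h (by decide)
      · have hfinR : Finite R := inferInstance
        have h1 := H921.card_eq_pow_of_center_four hR.symplecticType hR.absIrred hZ hm
        rw [Fintype.card_fin] at h1
        have hm2 : m = 2 := by
          have h2 : (2 : ℕ) ^ 2 = 2 ^ m := by rw [← h1]; norm_num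
          exact (Nat.pow_right_injective le_rfl h2).symm
        subst hm2
        exact Or.inr ⟨rfl, hZ, hm⟩
      · rw [Fintype.card_fin] at h
        omega
    have key : ∀ u : ℕ, u.Prime → u ∣ Nat.card M₀ → u = 2 ∨ u ∣ Nat.card F - 1 ∨ u ≤ 2 ^ 2 + 1 := fun u hu hud =>
      H251.GeoCard.symplecticType hR.symplecticType hR.absIrred ht (by norm_num) hu
        ((dvd_pre M₀ hud).trans (Subgroup.card_dvd_of_le (hpr.trans inf_le_left)))
    refine ⟨Or.inl ?_, fun s hs hsd => ?_⟩
    · rw [Nat.factorization_eq_zero_of_not_dvd]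
      · exact Nat.zero_le _
      intro h
      rcases key p hp h with h | h | h
      · exact hp2 h
      · exact hpF h
      · omega
    · have h7 := hsge s hs
      rcases key s hs.prime hsd with h | h | h
      · omega
      · have h1 := ((hs3 s hs).dvd_iff Nat.card_pos 1).1 (by rwa [pow_one])
        have := Nat.le_of_dvd (by norm_num) h1
        omega
      · omega
  · rw [e] at hpr
    have hne : Nonempty (Fin 4) := ⟨0⟩
    refine ⟨Or.inl ?_, fun s hs hsd => ?_⟩
    · rw [← fact_pre M₀ hp hp2]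
      have h1 := factorization_inf (H := pre M₀) (K := Cfsg.isometryGroup F Q) hp
        (fun y hy k hk => mem_iso_of_quad (quad_ne hQ) hp hpF (hpr hy).1 hk)
      rw [h1, ← card_O4 hp hp2 hf hF hQ (Fintype.card_fin 4)]
      exact factorization_mono inf_le_right
    · obtain ⟨y, hyr, hyM⟩ := exists_of_dvd hs.prime hsd
      have := even_of_quadratic (hs3' s hs) (by norm_num) (by rw [Fintype.card_fin]; norm_num) hyr hQ (hpr hyM).1
      revert this; decide
  · rw [e] at hpr
    have hne : Nonempty (Fin 4) := ⟨0⟩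
    refine ⟨?_, fun s hs hsd => ?_⟩
    · obtain ⟨θ, hθ⟩ := exists_sp hg
      have hne' := exists_ne_zero hg.nondegenerate
      have h1 := factorization_inf (H := pre M₀) (K := isoF g) hp
        (fun y hy k hk => mem_isoF_of_sim hne' hp hpF (hpr hy).1 hk)
      have h2 := pow_dvd_inf (H := pre M₀) (K := isoF g) hr.prime
        (fun y hy k hk => mem_isoF_of_sim hne' hr.prime hrF (hpr hy).1 hk) (dvd_pre M₀ hd)
      rw [← fact_pre M₀ hp hp2, h1]
      set N : Subgroup (GL (Fin 2 ⊕ Fin 2) F) := (pre M₀ ⊓ isoF g).map θ.toMonoidHom with hN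
      have hcN : Nat.card N = Nat.card ↥(pre M₀ ⊓ isoF g) := Subgroup.card_map_of_injective θ.injective
      have hNle : N ≤ spGL 2 F := by
        rintro _ ⟨y, hy, rfl⟩
        exact (hθ y).1 hy.2
      rw [← hcN] at h2 ⊢
      rcases H909.Om7.core hp hp2 hf hF h31 hNle hr hb h2 with h | h
      · exact Or.inl h
      · right
        have hfin2 : Finite (GL (Fin 2 ⊕ Fin 2) F) := inferInstance
        have h5 : p ^ (4 * f) ∣ Nat.card (spGL 2 F) := by
          rw [H955.card_spGL, hF, show (p ^ f) ^ 2 ^ 2 = p ^ (4 * f) by rw [← pow_mul, mul_comm]; norm_num]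
          exact dvd_mul_right _ _
        exact (Nat.Prime.pow_dvd_iff_le_factorization hp Nat.card_pos.ne').1 (h5.trans (Subgroup.card_dvd_of_le h))
    · obtain ⟨y, hyr, hyM⟩ := exists_of_dvd hs.prime hsd
      have := even_of_bilinear (hs3' s hs) (by norm_num) (by rw [Fintype.card_fin]; norm_num) hyr hg.bilinear
        hg.nondegenerate (hpr hyM).1
      revert this; decide
  · exfalso
    rw [e] at hpr
    have hne : Nonempty (Fin 4) := ⟨0⟩
    obtain ⟨p₁, k, hp₁, hch, hc, hσ⟩ := exists_frobenius hg.ne_refl hg.involutive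
    have := Fact.mk hp₁
    have hpp : p = p₁ := by
      have h2 : p ∣ (p₁ ^ k) ^ 2 := by
        rw [← hc, hF']; exact dvd_pow_self _ (by omega)
      exact (Nat.prime_dvd_prime_iff_eq hp hp₁).1 (hp.dvd_of_dvd_pow (hp.dvd_of_dvd_pow h2))
    subst hpp
    have hfk : f = 2 * k := by
      have h1 : p ^ f = p ^ (2 * k) := by rw [← hF', hc, ← pow_mul, mul_comm]
      exact Nat.pow_right_injective hp.two_le h1
    have hk : 1 ≤ k := by omega
    have hP8 : PP p (k * (2 * 4)) r := by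
      have : f * 4 = k * (2 * 4) := by rw [hfk]; ring
      rw [← this]
      exact hr
    have := odd_of_unitary hc (ppd_of_pp (hP8.of_pow hk) (by norm_num)) (by norm_num)
      (by rw [Fintype.card_fin]; norm_num) hxr hσ hg (hpr hxM).1
    revert this; decide
  · exact (resid_false hf hr hb hM hres (hd.trans (Subgroup.card_dvd_of_le hle))).elim

/-- **subgroups of `PSL_4(q)`** -/
theorem core4 (hp : p.Prime) (hp2 : p ≠ 2) (hf : 1 ≤ f) (hF : Nat.card F = p ^ f) (h31 : 31 ≤ p ^ f)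
    {M₀ : Subgroup (Matrix.ProjectiveSpecialLinearGroup (Fin 4) F)} {r a : ℕ}
    (hr : PP p (f * 4) r) (hb : 9 < r ^ a) (hd : r ^ a ∣ Nat.card M₀) :
    ((Nat.card M₀).factorization p ≤ 2 * f ∨ 4 * f ≤ (Nat.card M₀).factorization p) ∧
      ∀ s, PP p (f * 3) s → s ∣ Nat.card M₀ → M₀ = ⊤ := by
  have hfinP : Finite (Matrix.ProjectiveSpecialLinearGroup (Fin 4) F) := inferInstance
  rcases eq_top_or_exists_le_coatom M₀ with h | ⟨M, hM, hle⟩
  · subst h
    exact ⟨Or.inr (top_fact hp hf hF), fun _ _ _ => rfl⟩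
  · obtain ⟨h1, h2⟩ := core_max hp hp2 hf hF h31 hM hle hr hb hd
    exact ⟨h1, fun s hs hsd => absurd hsd (h2 s hs)⟩

end

end Cfsg.Agent.H238.Om7
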