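import Cfsg.Agent.H238.Om7.Core
import Cfsg.Agent.S0302
import Cfsg.Agent.FooteOrth.Rows
import Cfsg.Agent.H587.KB8.Geo
import Cfsg.Agent.H955.QClass
import Cfsg.Agent.H122.OrthIso

/-!
# S3691, `Ω_7(q)`: box B6+ (helper238)

`dim_six_plus` : subgroups of a six-dimensional orthogonal group of plus type with a primitive prime of order 4.
-/

set_option autoImplicit false

namespace Cfsg.Agent.H238.Om7

open Module QuadraticMap Cfsg Cfsg.Geo Cfsg.Agent.LieClassical.OrthCore Cfsg.Agent.LieClassical.OrthTrans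
open Cfsg.Agent.H884.El (PP)
open Cfsg.Agent.H955 (IsPlus)
open Cfsg.Agent.TitsThree.KSideO (toPOmega toPOmega_surjective)
open Cfsg.Agent.H122.OrthIso (cj cj_apply map_cj_E)
open Cfsg.Agent.LieClassical.OrthFinite (good_of_finite)
open Cfsg.Agent.LieClassical.QuadForms (plusForm coe_plusForm)
open scoped commutatorElement
open scoped MatrixGroups

section

variable {F : Type} [Field F] [Fintype F] {p f : ℕ}

/-- the standard form -/
theorem six_std (hp : p.Prime) (hp2 : p ≠ 2) (hf : 1 ≤ f) (hF : Nat.card F = p ^ f) (h31 : 31 ≤ p ^ f)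
    {Γ : Subgroup ((Fin 3 ⊕ Fin 3 → F) ≃ₗ[F] (Fin 3 ⊕ Fin 3 → F))} (hΓ : Γ ≤ O (plusForm 3 F)) {r a : ℕ}
    (hr : PP p (f * 4) r) (hb : 9 < r ^ a) (hd : r ^ a ∣ Nat.card Γ) :
    ((Nat.card Γ).factorization p ≤ 2 * f ∨ 4 * f ≤ (Nat.card Γ).factorization p) ∧
      ∀ s, PP p (f * 3) s → s ∣ Nat.card Γ → E (plusForm 3 F) ≤ Γ := by
  have hfinV : Finite ((Fin 3 ⊕ Fin 3 → F) ≃ₗ[F] (Fin 3 ⊕ Fin 3 → F)) := DFunLike.finite _
  have hfinP : Finite (Matrix.ProjectiveSpecialLinearGroup (Fin 4) F) := inferInstance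
  have hG : Good (plusForm 3 F) := good_of_finite (Cfsg.Agent.H955.nondeg_plus 3) (by
    rw [Module.finrank_fintype_fun_eq_card]; decide)
  have hθ := Cfsg.Agent.S0302.result (F := F)
  rw [← coe_plusForm] at hθ
  obtain ⟨θ⟩ := hθ
  set π : E (plusForm 3 F) →* Matrix.ProjectiveSpecialLinearGroup (Fin 4) F := θ.toMonoidHom.comp (toPOmega hG) with hπ
  have hπs : Function.Surjective π := θ.surjective.comp (toPOmega_surjective hG)
  have hker : ∀ x ∈ π.ker, x ^ 2 = 1 := by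
    intro x hx
    have h1 : toPOmega hG x = 1 := θ.injective (by rw [map_one]; exact hx)
    obtain ⟨c, hc, hv⟩ := Cfsg.Agent.FooteOrth.toPOmega_ker hG x h1
    apply Subtype.ext
    rw [pow_two]
    ext1 v
    change (x : (Fin 3 ⊕ Fin 3 → F) ≃ₗ[F] (Fin 3 ⊕ Fin 3 → F)) ((x : (Fin 3 ⊕ Fin 3 → F) ≃ₗ[F] (Fin 3 ⊕ Fin 3 → F)) v) = v
    rw [hv, hv]
    rcases hc with rfl | rfl
    · rw [one_smul, one_smul]
    · rw [neg_smul, neg_smul, one_smul, one_smul, neg_neg]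
  -- the odd part lies in `E Q`
  have hodd : ∀ l : ℕ, l.Prime → l ≠ 2 → ∀ x ∈ Γ, ∀ k : ℕ, x ^ l ^ k = 1 → x ∈ E (plusForm 3 F) :=
    fun l hl hl2 x hx k hk => Cfsg.Agent.H587.KB8.mem_E_of_odd hG (hΓ hx) ((hl.odd_of_ne_two hl2).pow) hk
  set Γ₁ : Subgroup (E (plusForm 3 F)) := Γ.subgroupOf (E (plusForm 3 F)) with hΓ₁
  have hc1 : Nat.card Γ₁ = Nat.card ↥(Γ ⊓ E (plusForm 3 F)) := by
    rw [hΓ₁, ← Subgroup.card_map_of_injective (E (plusForm 3 F)).subtype_injective, Subgroup.subgroupOf_map_subtype]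
  have hcm := card_map_mul π Γ₁
  have hnd : ∀ l : ℕ, l.Prime → l ≠ 2 → ¬ l ∣ Nat.card ↥(π.ker ⊓ Γ₁) := fun l hl hl2 =>
    not_dvd_of_pow (k := 2 ^ 1) hl (fun x hx => by rw [pow_one]; exact hker x hx.1) (not_dvd_two_pow hl hl2 1)
  have hr2 : r ≠ 2 := by
    have := hr.lt (by omega)
    omega
  have hfac : (Nat.card (Γ₁.map π)).factorization p = (Nat.card Γ).factorization p := by
    rw [factorization_inf (H := Γ) (K := E (plusForm 3 F)) hp (hodd p hp hp2), ← hc1, ← hcm,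
      Nat.factorization_mul Nat.card_pos.ne' Nat.card_pos.ne', Finsupp.add_apply,
      Nat.factorization_eq_zero_of_not_dvd (hnd p hp hp2), add_zero]
  have hdv : ∀ (l n : ℕ), l.Prime → l ≠ 2 → l ^ n ∣ Nat.card Γ → l ^ n ∣ Nat.card (Γ₁.map π) := by
    intro l n hl hl2 h
    have h1 := pow_dvd_inf (H := Γ) (K := E (plusForm 3 F)) hl (hodd l hl hl2) h
    rw [← hc1, ← hcm] at h1
    exact (Nat.Coprime.pow_left n (hl.coprime_iff_not_dvd.2 (hnd l hl hl2))).dvd_of_dvd_mul_right h1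
  obtain ⟨h1, h2⟩ := core4 hp hp2 hf hF h31 hr hb (hdv r a hr.prime hr2 hd)
  rw [hfac] at h1
  refine ⟨h1, fun s hs hsd => ?_⟩
  have hs2 : s ≠ 2 := by
    have := hs.lt (by omega)
    omega
  have htop := h2 s hs (by
    have := hdv s 1 hs.prime hs2 (by rwa [pow_one])
    rwa [pow_one] at this)
  -- `Γ₁` covers the simple group, so everything
  have hsup : ∀ x : E (plusForm 3 F), ∃ y ∈ Γ₁, ∃ z ∈ π.ker, x = y * z := by
    intro x
    have h3 : π x ∈ Γ₁.map π := by rw [htop]; trivial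
    obtain ⟨y, hy, hyx⟩ := h3
    refine ⟨y, hy, y⁻¹ * x, ?_, by group⟩
    rw [MonoidHom.mem_ker, map_mul, map_inv, hyx, inv_mul_cancel]
  have hcen : ∀ z ∈ π.ker, ∀ g : E (plusForm 3 F), g * z = z * g := by
    intro z hz
    have h3 : toPOmega hG z = 1 := θ.injective (by rw [map_one]; exact hz)
    exact Subgroup.mem_center_iff.1 (Cfsg.Agent.TitsThree.KSideO.center_of_toPOmega hG h3)
  have hcomm : ⁅(⊤ : Subgroup (E (plusForm 3 F))), (⊤ : Subgroup (E (plusForm 3 F)))⁆ ≤ Γ₁ := by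
    rw [Subgroup.commutator_le]
    intro a _ b _
    obtain ⟨y, hy, z, hz, rfl⟩ := hsup a
    obtain ⟨y', hy', z', hz', rfl⟩ := hsup b
    have e1 : ⁅y * z, y' * z'⁆ = ⁅y, y'⁆ := by
      rw [commutatorElement_def, commutatorElement_def]
      have a1 := hcen z hz
      have a2 := hcen z' hz'
      calc y * z * (y' * z') * (y * z)⁻¹ * (y' * z')⁻¹
          = y * (z * y') * z' * (z⁻¹ * y⁻¹) * (z'⁻¹ * y'⁻¹) := by group
        _ = y * (y' * z) * z' * (z⁻¹ * y⁻¹) * (z'⁻¹ * y'⁻¹) := by rw [a1]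
        _ = y * y' * (z * z') * (z⁻¹ * y⁻¹) * (z'⁻¹ * y'⁻¹) := by group
        _ = y * y' * (z' * z) * (z⁻¹ * y⁻¹) * (z'⁻¹ * y'⁻¹) := by rw [a1 z']
        _ = y * y' * (z' * y⁻¹) * (z'⁻¹ * y'⁻¹) := by group
        _ = y * y' * (y⁻¹ * z') * (z'⁻¹ * y'⁻¹) := by rw [a2]
        _ = y * y' * y⁻¹ * y'⁻¹ := by group
    rw [e1, commutatorElement_def]
    exact Γ₁.mul_mem (Γ₁.mul_mem (Γ₁.mul_mem hy hy') (Γ₁.inv_mem hy)) (Γ₁.inv_mem hy')
  have hperf : ⁅(⊤ : Subgroup (E (plusForm 3 F))), (⊤ : Subgroup (E (plusForm 3 F)))⁆ = ⊤ := by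
    have h3 := hG.E_perfect
    apply Subgroup.map_injective (E (plusForm 3 F)).subtype_injective
    rw [Subgroup.map_commutator, ← MonoidHom.range_eq_map, Subgroup.range_subtype]
    exact h3
  rw [hperf, top_le_iff, hΓ₁, Subgroup.subgroupOf_eq_top] at hcomm
  exact hcomm

end

section

variable {F : Type} [Field F] [Fintype F] {V : Type} [AddCommGroup V] [Module F V] [FiniteDimensional F V] {Q : QuadraticForm F V}
  {p f : ℕ} {Γ : Subgroup (V ≃ₗ[F] V)}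

/-- **box B6+** -/
theorem dim_six_plus (hQ : Nondeg Q) (h6 : finrank F V = 6) (hpl : IsPlus Q) (hp : p.Prime) (hp2 : p ≠ 2) (hf : 1 ≤ f)
    (hF : Nat.card F = p ^ f) (h31 : 31 ≤ p ^ f) (hΓ : Γ ≤ O Q) {r a : ℕ} (hr : PP p (f * 4) r) (hb : 9 < r ^ a)
    (hd : r ^ a ∣ Nat.card Γ) :
    ((Nat.card Γ).factorization p ≤ 2 * f ∨ 4 * f ≤ (Nat.card Γ).factorization p) ∧
      ∀ s b, PP p (f * 3) s → 7 < s ^ b → s ^ b ∣ Nat.card Γ → E Q ≤ Γ := by
  obtain ⟨e, he⟩ := Cfsg.Agent.H955.exists_plus_equiv 3 Q hQ (by omega) hpl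
  have hcard : Nat.card (Γ.map (cj e).toMonoidHom) = Nat.card Γ := Subgroup.card_map_of_injective (cj e).injective
  have hle : Γ.map (cj e).toMonoidHom ≤ O (plusForm 3 F) := by
    rintro _ ⟨g, hg, rfl⟩
    rw [mem_O]
    intro v
    change plusForm 3 F (e (g (e.symm v))) = plusForm 3 F v
    rw [he, mem_O.1 (hΓ hg), ← he, e.apply_symm_apply]
  obtain ⟨h1, h2⟩ := six_std hp hp2 hf hF h31 hle hr hb (by rw [hcard]; exact hd)
  rw [hcard] at h1 h2
  refine ⟨h1, fun s b hs hb' hsd => ?_⟩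
  have hb0 : b ≠ 0 := by rintro rfl; norm_num at hb'
  have h3 := h2 s hs ((dvd_pow_self s hb0).trans hsd)
  rw [← map_cj_E he] at h3
  exact (Subgroup.map_le_map_iff_of_injective (cj e).injective).1 h3

end

end Cfsg.Agent.H238.Om7
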