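import Cfsg.Agent.S5781
import Cfsg.Agent.S5782
import Cfsg.Agent.H304.PslRes
import Cfsg.Agent.H304.PslTransfer
import Cfsg.Agent.H304.PpdClass
import Cfsg.Agent.H96.Rg.SixField
import Cfsg.Agent.H884.ElKill
import Cfsg.Agent.H884.ElLin
import Cfsg.Agent.H909.Om7.SpFour
import Cfsg.Agent.H957.SpIndex
import Cfsg.Agent.H845.AutUFour
import Cfsg.Agent.H900.SU4.Base
import Cfsg.Agent.H953.Sympl
import Cfsg.Agent.H931.SpProper

/-!
# S3691, `Ω_7(q)`: subgroups of `SL_4(q)` of order divisible by `r ^ a > 9`, `r` primitive of order 4 (helper238)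
-/

set_option autoImplicit false

namespace Cfsg.Agent.H238.Om7

open Module Matrix Cfsg Cfsg.Geo Cfsg.Agent.H884.El Cfsg.Agent.H728.DghpNum Cfsg.Agent.H304.PslT
open scoped MatrixGroups

/-! ### prime powers -/

section Grp

variable {G : Type*} [Group G] [Finite G] {H K : Subgroup G} {l : ℕ}

/-- `l`-subgroups of `H` lie in `K` -/
theorem pow_dvd_inf (hl : l.Prime) (h : ∀ x ∈ H, ∀ k : ℕ, x ^ l ^ k = 1 → x ∈ K) {n : ℕ}
    (hn : l ^ n ∣ Nat.card H) : l ^ n ∣ Nat.card ↥(H ⊓ K) := by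
  have := Fact.mk hl
  obtain ⟨P, hP⟩ := Sylow.exists_subgroup_card_pow_prime (G := H) l hn
  have h1 : P.map H.subtype ≤ H ⊓ K := by
    rintro _ ⟨x, hx, rfl⟩
    refine ⟨x.2, h x x.2 n ?_⟩
    have h2 : (⟨x, hx⟩ : P) ^ l ^ n = 1 := by
      rw [← hP]
      exact pow_card_eq_one'
    have h3 : x ^ l ^ n = 1 := congrArg Subtype.val h2
    have h4 := congrArg Subtype.val h3
    exact h4
  rw [← hP, ← Subgroup.card_map_of_injective H.subtype_injective]
  exact Subgroup.card_dvd_of_le h1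

theorem factorization_inf (hl : l.Prime) (h : ∀ x ∈ H, ∀ k : ℕ, x ^ l ^ k = 1 → x ∈ K) :
    (Nat.card H).factorization l = (Nat.card ↥(H ⊓ K)).factorization l := by
  apply le_antisymm
  · rw [← hl.pow_dvd_iff_le_factorization Nat.card_pos.ne']
    exact pow_dvd_inf hl h (Nat.ordProj_dvd _ _)
  · exact (Nat.factorization_le_iff_dvd Nat.card_pos.ne' Nat.card_pos.ne').2 (Subgroup.card_dvd_of_le inf_le_left) l

theorem factorization_mono (h : H ≤ K) : (Nat.card H).factorization l ≤ (Nat.card K).factorization l :=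
  (Nat.factorization_le_iff_dvd Nat.card_pos.ne' Nat.card_pos.ne').2 (Subgroup.card_dvd_of_le h) l

end Grp

/-! ### numbers -/

section Num

variable {p f r k : ℕ}

theorem ppd_of_pp {q e : ℕ} (h : PP q e r) (he : 1 ≤ e) : Ppd q e r := ⟨h.prime, h.ord, h.not_dvd he⟩

theorem pp_card {F : Type*} [Field F] [Finite F] (hf : 1 ≤ f) (hF : Nat.card F = p ^ f) (h : PP p (f * k) r) :
    PP (Nat.card F) k r := by
  rw [hF]
  exact h.of_pow hf

theorem ndvd_pred (hp : p.Prime) (hf : 1 ≤ f) : ¬ p ∣ p ^ f - 1 := by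
  intro h
  have h1 : p ∣ p ^ f := dvd_pow_self p (by omega)
  have h2 : 1 ≤ p ^ f := Nat.one_le_pow _ _ hp.pos
  have h3 := Nat.dvd_sub h1 h
  rw [Nat.sub_sub_self h2] at h3
  exact hp.one_lt.ne' (Nat.dvd_one.1 h3)

end Num

/-! ### similarities -/

section Sim

variable {ι : Type} [Fintype ι] [DecidableEq ι] {F : Type*} [Field F]

/-- isometries of a two-argument form -/
def isoF (f : (ι → F) → (ι → F) → F) : Subgroup (GL ι F) where
  carrier := {g | ∀ u v, f ((g : Matrix ι ι F) *ᵥ u) ((g : Matrix ι ι F) *ᵥ v) = f u v}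
  mul_mem' {a b} ha hb := fun u v => by
    rw [Units.val_mul, ← Matrix.mulVec_mulVec, ← Matrix.mulVec_mulVec, ha, hb]
  one_mem' := fun u v => by simp
  inv_mem' {a} ha := fun u v => by
    have h := ha (((a⁻¹ : GL ι F) : Matrix ι ι F) *ᵥ u) (((a⁻¹ : GL ι F) : Matrix ι ι F) *ᵥ v)
    rw [Matrix.mulVec_mulVec, Matrix.mulVec_mulVec, ← Units.val_mul, mul_inv_cancel, Units.val_one,
      Matrix.one_mulVec, Matrix.one_mulVec] at h
    exact h.symm

theorem mem_isoF {f : (ι → F) → (ι → F) → F} {g : GL ι F} :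
    g ∈ isoF f ↔ ∀ u v, f ((g : Matrix ι ι F) *ᵥ u) ((g : Matrix ι ι F) *ᵥ v) = f u v := Iff.rfl

theorem unit_eq_one [Finite F] {l k : ℕ} (hl : l.Prime) (hlF : ¬ l ∣ Nat.card F - 1) {c : Fˣ} (h : c ^ l ^ k = 1) :
    c = 1 := by
  have h5 : orderOf c ∣ l ^ k := orderOf_dvd_of_pow_eq_one h
  have h6 : orderOf c ∣ Nat.card F - 1 := by
    have := _root_.orderOf_dvd_natCard c
    rwa [Nat.card_units] at this
  obtain ⟨j, -, hj⟩ := (Nat.dvd_prime_pow hl).1 h5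
  rcases Nat.eq_zero_or_pos j with h0 | h0
  · rw [h0, pow_zero] at hj
    exact orderOf_eq_one_iff.1 hj
  · exact absurd ((dvd_pow_self l (by omega)).trans (hj ▸ h6)) hlF

theorem sim_pow {f : (ι → F) → (ι → F) → F} {x : GL ι F} {c : Fˣ}
    (h : ∀ u v, f ((x : Matrix ι ι F) *ᵥ u) ((x : Matrix ι ι F) *ᵥ v) = (c : F) * f u v) (k : ℕ) :
    ∀ u v, f (((x ^ k : GL ι F) : Matrix ι ι F) *ᵥ u) (((x ^ k : GL ι F) : Matrix ι ι F) *ᵥ v) =
      ((c ^ k : Fˣ) : F) * f u v := by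
  induction k with
  | zero => intro u v; simp
  | succ k ih =>
    intro u v
    rw [pow_succ', Units.val_mul, ← Matrix.mulVec_mulVec, ← Matrix.mulVec_mulVec, h, ih, pow_succ', Units.val_mul,
      mul_assoc]

theorem mem_isoF_of_sim [Finite F] {f : (ι → F) → (ι → F) → F} (hne : ∃ u v, f u v ≠ 0) {l : ℕ} (hl : l.Prime)
    (hlF : ¬ l ∣ Nat.card F - 1) {x : GL ι F} (hx : x ∈ similarityGroup f) {k : ℕ} (hxk : x ^ l ^ k = 1) :
    x ∈ isoF f := by
  obtain ⟨c, hc⟩ := hx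
  obtain ⟨u, v, huv⟩ := hne
  have h1 := sim_pow hc (l ^ k) u v
  rw [hxk, Units.val_one, Matrix.one_mulVec, Matrix.one_mulVec] at h1
  have h2 : ((c ^ l ^ k : Fˣ) : F) = 1 := by
    have h3 : (((c ^ l ^ k : Fˣ) : F) - 1) * f u v = 0 := by rw [sub_mul, one_mul, ← h1, sub_self]
    exact sub_eq_zero.1 ((mul_eq_zero.1 h3).resolve_right huv)
  have h3 : c = 1 := unit_eq_one hl hlF (Units.ext h2)
  intro a b
  rw [hc, h3, Units.val_one, one_mul]

theorem mem_iso_of_quad [Finite F] {Q : (ι → F) → F} (hne : ∃ v, Q v ≠ 0) {l : ℕ} (hl : l.Prime)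
    (hlF : ¬ l ∣ Nat.card F - 1) {x : GL ι F} (hx : x ∈ quadSimilarityGroup Q) {k : ℕ} (hxk : x ^ l ^ k = 1) :
    x ∈ Cfsg.isometryGroup F Q := by
  obtain ⟨c, hc⟩ := hx
  obtain ⟨v, hv⟩ := hne
  have h0 : ∀ k : ℕ, ∀ u, Q (((x ^ k : GL ι F) : Matrix ι ι F) *ᵥ u) = ((c ^ k : Fˣ) : F) * Q u := by
    intro k
    induction k with
    | zero => intro u; simp
    | succ k ih =>
      intro u
      rw [pow_succ', Units.val_mul, ← Matrix.mulVec_mulVec, hc, ih, pow_succ', Units.val_mul, mul_assoc]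
  have h1 := h0 (l ^ k) v
  rw [hxk, Units.val_one, Matrix.one_mulVec] at h1
  have h2 : ((c ^ l ^ k : Fˣ) : F) = 1 := by
    have h3 : (((c ^ l ^ k : Fˣ) : F) - 1) * Q v = 0 := by rw [sub_mul, one_mul, ← h1, sub_self]
    exact sub_eq_zero.1 ((mul_eq_zero.1 h3).resolve_right hv)
  have h3 : c = 1 := unit_eq_one hl hlF (Units.ext h2)
  intro a _
  change Q ((x : Matrix ι ι F) *ᵥ a) = Q a
  rw [hc, h3, Units.val_one, one_mul]

end Sim

/-! ### the symplectic group in coordinates -/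

section Sp

variable {F : Type} [Field F]

theorem stdForm_eq' (k : ℕ) (u v : Fin k ⊕ Fin k → F) : H953.stdForm k F u v = - sympForm k F u v := by
  unfold H953.stdForm
  rw [ClassicalGeometry.SympBasic.sympForm_eq_sum, ← Finset.sum_neg_distrib]
  exact Finset.sum_congr rfl fun i _ => by ring

theorem reindex_mulVec' {k m : ℕ} (ε : Fin k ⊕ Fin k ≃ Fin m) (A : GL (Fin k ⊕ Fin k) F) (u : Fin m → F) :
    (((glReindex ε A : GL (Fin m) F) : Matrix (Fin m) (Fin m) F) *ᵥ u) ∘ ε =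
      (A : Matrix (Fin k ⊕ Fin k) (Fin k ⊕ Fin k) F) *ᵥ (u ∘ ε) := by
  funext i
  change ∑ j : Fin m, (A : Matrix (Fin k ⊕ Fin k) (Fin k ⊕ Fin k) F) (ε.symm (ε i)) (ε.symm j) * u j =
    ∑ j : Fin k ⊕ Fin k, (A : Matrix (Fin k ⊕ Fin k) (Fin k ⊕ Fin k) F) i j * u (ε j)
  rw [← Equiv.sum_comp ε]
  simp

theorem exists_sp {f : (Fin 4 → F) → (Fin 4 → F) → F} (hf : IsSymplecticForm f) :
    ∃ θ : GL (Fin 4) F ≃* GL (Fin 2 ⊕ Fin 2) F, ∀ x, x ∈ isoF f ↔ θ x ∈ spGL 2 F := by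
  obtain ⟨k, ε, S, hS⟩ := H953.exists_std hf
  have hk : k = 2 := by
    have := Fintype.card_congr ε
    simp only [Fintype.card_sum, Fintype.card_fin] at this
    omega
  subst hk
  refine ⟨(MulAut.conj S⁻¹).trans (glReindex (F := F) ε).symm, fun x => ?_⟩
  set A : GL (Fin 2 ⊕ Fin 2) F := ((MulAut.conj S⁻¹).trans (glReindex (F := F) ε).symm) x with hA
  have hrA : glReindex (F := F) ε A = S⁻¹ * x * S := by
    rw [hA, MulEquiv.trans_apply, MulEquiv.apply_symm_apply, MulAut.conj_apply, inv_inv]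
  have key : ∀ u v : Fin 4 → F, sympForm 2 F ((A : Matrix (Fin 2 ⊕ Fin 2) (Fin 2 ⊕ Fin 2) F) *ᵥ (u ∘ ε)) ((A : Matrix (Fin 2 ⊕ Fin 2) (Fin 2 ⊕ Fin 2) F) *ᵥ (v ∘ ε)) =
      - f ((x : Matrix (Fin 4) (Fin 4) F) *ᵥ ((S : Matrix (Fin 4) (Fin 4) F) *ᵥ u)) ((x : Matrix (Fin 4) (Fin 4) F) *ᵥ ((S : Matrix (Fin 4) (Fin 4) F) *ᵥ v)) := by
    intro u v
    rw [← reindex_mulVec', ← reindex_mulVec', hrA, eq_neg_iff_add_eq_zero, ← neg_eq_iff_add_eq_zero, ← stdForm_eq', ← hS,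
      Matrix.mulVec_mulVec, Matrix.mulVec_mulVec, ← Units.val_mul, ← mul_assoc, ← mul_assoc, mul_inv_cancel, one_mul,
      Units.val_mul, ← Matrix.mulVec_mulVec, ← Matrix.mulVec_mulVec]
  have key2 : ∀ u v : Fin 4 → F, sympForm 2 F (u ∘ ε) (v ∘ ε) =
      - f ((S : Matrix (Fin 4) (Fin 4) F) *ᵥ u) ((S : Matrix (Fin 4) (Fin 4) F) *ᵥ v) := by
    intro u v
    rw [hS, stdForm_eq', neg_neg]
  have hsurj : ∀ w : Fin 4 → F, ∃ u, (S : Matrix (Fin 4) (Fin 4) F) *ᵥ u = w := fun w => ⟨((S⁻¹ : GL (Fin 4) F) : Matrix (Fin 4) (Fin 4) F) *ᵥ w, by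
    rw [Matrix.mulVec_mulVec, ← Units.val_mul, mul_inv_cancel, Units.val_one, Matrix.one_mulVec]⟩
  constructor
  · intro h
    rw [H931.mem_spGL_iff]
    intro u v
    have h1 := key (u ∘ ε.symm) (v ∘ ε.symm)
    have h2 := key2 (u ∘ ε.symm) (v ∘ ε.symm)
    have e1 : ∀ u : Fin 2 ⊕ Fin 2 → F, (u ∘ ε.symm) ∘ ε = u := fun u => by funext i; simp
    rw [e1, e1] at h1 h2
    rw [h1, h2, h]
  · intro h u v
    rw [H931.mem_spGL_iff] at h
    obtain ⟨u, rfl⟩ := hsurj u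
    obtain ⟨v, rfl⟩ := hsurj v
    have h1 := key u v
    rw [h, key2] at h1
    exact (neg_injective h1).symm

end Sp

/-! ### orders -/

section Ord

variable {p f : ℕ}

theorem factorization_mul_eq (hp : p.Prime) {k m : ℕ} (hm : ¬ p ∣ m) : (p ^ k * m).factorization p = k := by
  have hm0 : m ≠ 0 := by rintro rfl; exact hm (dvd_zero p)
  rw [Nat.factorization_mul (pow_ne_zero _ hp.ne_zero) hm0, Finsupp.add_apply, hp.factorization_pow,
    Finsupp.single_eq_same, Nat.factorization_eq_zero_of_not_dvd hm, add_zero]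

theorem ndvd_pow_pred (hp : p.Prime) (hf : 1 ≤ f) {j : ℕ} (hj : 1 ≤ j) : ¬ p ∣ (p ^ f) ^ j - 1 := by
  rw [← pow_mul]
  exact ndvd_pred hp (Nat.mul_pos hf hj)

variable {ι : Type} [Fintype ι] [DecidableEq ι] {F : Type} [Field F] [Fintype F]

/-- the `p`-part of the orthogonal groups of dimension four -/
theorem card_O4 (hp : p.Prime) (hp2 : p ≠ 2) (hf : 1 ≤ f) (hF : Nat.card F = p ^ f) {Q : (ι → F) → F}
    (hQ : IsNondegenerateQuadraticForm Q) (hι : Fintype.card ι = 4) :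
    (Nat.card (Cfsg.isometryGroup F Q)).factorization p = 2 * f := by
  have hnd := H884.OmegaGL.nondeg_bundle Q hQ
  have hF' : Fintype.card F = p ^ f := by rw [← Nat.card_eq_fintype_card]; exact hF
  have h2 : ¬ p ∣ 2 := fun h => hp2 ((Nat.prime_dvd_prime_iff_eq hp Nat.prime_two).1 h)
  have e1 : ¬ p ∣ (p ^ f) ^ 2 - 1 := ndvd_pow_pred hp hf (by norm_num)
  have e2 : ¬ p ∣ (p ^ f) ^ 2 + 1 := by
    intro h
    have h1 : p ∣ (p ^ f) ^ 2 := dvd_pow (dvd_pow_self p (by omega)) (by norm_num)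
    have h3 := (Nat.dvd_add_right h1).1 h
    exact hp.one_lt.ne' (Nat.dvd_one.1 h3)
  by_cases hP : H955.IsPlus (H884.OmegaGL.bundle Q hQ)
  · have h := H957.card_isometryGroup_plus (H884.OmegaGL.bundle Q hQ) hnd (m := 2) (by norm_num) hι hP
    rw [H884.OmegaGL.coe_bundle, hF'] at h
    simp only [Nat.reduceSub, Finset.range_one, Finset.prod_singleton, zero_add, mul_one] at h
    have h3 : 2 * (p ^ f) ^ 2 * ((p ^ f) ^ 2 - 1) * ((p ^ f) ^ 2 - 1) =
        p ^ (2 * f) * (2 * (((p ^ f) ^ 2 - 1) * ((p ^ f) ^ 2 - 1))) := by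
      rw [show p ^ (2 * f) = (p ^ f) ^ 2 by rw [← pow_mul, mul_comm]]
      ring
    rw [h, h3]
    apply factorization_mul_eq hp
    rw [hp.dvd_mul, hp.dvd_mul]
    tauto
  · have h := H957.card_isometryGroup_minus (H884.OmegaGL.bundle Q hQ) hnd (m := 2) (by norm_num) hι hP
    rw [H884.OmegaGL.coe_bundle, hF'] at h
    simp only [Nat.reduceSub, Finset.range_one, Finset.prod_singleton, zero_add, mul_one] at h
    have h3 : 2 * (p ^ f) ^ 2 * ((p ^ f) ^ 2 + 1) * ((p ^ f) ^ 2 - 1) =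
        p ^ (2 * f) * (2 * (((p ^ f) ^ 2 + 1) * ((p ^ f) ^ 2 - 1))) := by
      rw [show p ^ (2 * f) = (p ^ f) ^ 2 by rw [← pow_mul, mul_comm]]
      ring
    rw [h, h3]
    apply factorization_mul_eq hp
    rw [hp.dvd_mul, hp.dvd_mul]
    tauto

omit [Fintype ι] [DecidableEq ι] [Fintype F] in
theorem quad_ne [Nonempty ι] {Q : (ι → F) → F} (hQ : IsNondegenerateQuadraticForm Q) : ∃ v, Q v ≠ 0 := by
  by_contra h
  push Not at h
  obtain ⟨v, hv⟩ : ∃ v : ι → F, v ≠ 0 := exists_ne 0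
  obtain ⟨⟨a, ha⟩, -⟩ := hQ.nondegenerate v hv
  apply ha
  rw [QuadraticMap.polar, h, h, h]
  ring

end Ord

end Cfsg.Agent.H238.Om7
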